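import Groth.Prelude.Def_Pic13
import Groth.Agent.Fga.MultFinal
import Groth.Agent.Fga.IntAdd
import Groth.Agent.Fga.DimLt
import Groth.Agent.Fga.IntNum0
import Groth.Agent.CurvesC.UnitCoh

/-!
# Numerical triviality from the Euler characteristics of all twists

`X` irreducible proper over `k`, `L` invertible with `χ(L^m ⊗ H^n) = χ(H^n)` for all integers `m`, `n`: then the
intersection numbers `(L · H^{r-1})` and `(L² · H^{r-2})` vanish (formal cancellation); with the Hodge index theorem in
dimension `r ≥ 2` (a hypothesis here: `S4290`) `L` is numerically trivial. Dimension one is direct.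
-/

set_option autoImplicit false
universe u
open CategoryTheory CategoryTheory.Limits AlgebraicGeometry

namespace Groth.Agent.Pic13.H972.Glue

open Groth.Agent.Fga Groth.Agent.Fga.PicMon Groth.Agent.Fga.AltSum

section Alg

variable {G : Type*} [CommMonoid G]

/-- The mixed difference in `(a, b, …, b)` vanishes if `φ (a b^n) = φ (b^n)`. -/
theorem dSum_cons_const (φ : G → ℤ) (a b : G) (r : ℕ) (h : ∀ n : ℕ, φ (a * b ^ n) = φ (b ^ n)) :
    dSum φ (Fin.cons a (fun _ : Fin r => b) : Fin (r + 1) → G) = 0 := by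
  rw [dSum_cons, sub_eq_zero]
  refine dSum_congr fun I => ?_
  rw [Finset.prod_const, h]

/-- The mixed difference in `(a, a, b, …, b)` vanishes if `φ (a^m b^n) = φ (b^n)`. -/
theorem dSum_cons_cons_const (φ : G → ℤ) (a b : G) (r : ℕ) (h : ∀ m n : ℕ, φ (a ^ m * b ^ n) = φ (b ^ n)) :
    dSum φ (Fin.cons a (Fin.cons a (fun _ : Fin r => b) : Fin (r + 1) → G) : Fin (r + 2) → G) = 0 := by
  rw [dSum_cons]
  rw [dSum_cons_const φ a b r (fun n => by simpa using h 1 n),
    dSum_cons_const (fun x => φ (a * x)) a b r, sub_zero]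
  intro n
  have h1 := h 2 n
  have h2 := h 1 n
  rw [pow_one] at h2
  rw [← mul_assoc, ← pow_two, h1, h2]

end Alg

theorem mem_support_unit {X : Scheme.{u}} (x : X) : x ∈ CohB1.support (Coh.structureModule X) := by
  intro hsub
  have h1 : (Coh.structureModule X).presheaf.germ ⊤ x (TopologicalSpace.Opens.mem_top _)
    (Fdesc.LocGen.one ⊤) = 0 := Subsingleton.elim _ _
  obtain ⟨V, hVU, hxV, hV⟩ := VarietyB.ExactLoc.exists_res_eq_zero (Coh.structureModule X)
    (TopologicalSpace.Opens.mem_top _) _ h1
  have h2 : Fdesc.LocGen.one (X := X) V = 0 := by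
    rw [← Fdesc.LocGen.res_one hVU]
    exact hV
  have h5 : (1 : Γ(X, V)) = 0 := by
    apply (Fdesc.LocGen.isGen_one V).ext
    rw [h2, smul_zero, smul_zero]
  have : Nonempty V := ⟨⟨x, hxV⟩⟩
  exact one_ne_zero h5

/-- Euler characteristics in degrees `≤ d` and `≤ e` agree when both bound the dimension. -/
theorem euler_eq_euler (k : Type u) [Field k] (X : Scheme.{u}) [X.Over (Spec (CommRingCat.of k))]
    [IsProper (X ↘ Spec (CommRingCat.of k))] (d e : ℕ) (hd : topologicalKrullDim X ≤ d)
    (he : topologicalKrullDim X ≤ e) (F : X.Modules) :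
    FGA.eulerCharLE k X F d = FGA.eulerCharLE k X F e := by
  rw [IntAdd.eulerCharLE_eq k X d hd, IntAdd.eulerCharLE_eq k X e he]

/-- On an irreducible scheme of dimension `≤ 1`, an integral closed subscheme of dimension one is everything
(as a set). -/
theorem range_eq_univ {X Y : Scheme.{u}} [IrreducibleSpace X] (i : Y ⟶ X) [IsClosedImmersion i]
    (hX : topologicalKrullDim X ≤ 1) (hY : topologicalKrullDim Y = 1) : Set.range i = Set.univ := by
  by_contra hne
  have h1 : topologicalKrullDim (Set.range i) = 1 := by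
    rw [← hY]
    exact (IsHomeomorph.topologicalKrullDim_eq _
      (i.isClosedEmbedding.isEmbedding.toHomeomorph.isHomeomorph)).symm
  have h2 := DimLt.exists_ltSeries_succ (T := X) (B := Set.range i) i.isClosedEmbedding.isClosed_range hne
    (n := 1) (by rw [h1]; rfl)
  have h3 := h2.trans hX
  have h4 : ((1 + 1 : ℕ) : WithBot ℕ∞) ≤ ((1 : ℕ) : WithBot ℕ∞) := by exact_mod_cast h3
  have h5 : (1 + 1 : ℕ) ≤ 1 := by exact_mod_cast h4
  omega

/-- The case of dimension `≤ 1`: an invertible module with `χ(L) = χ(O_X)` on an irreducible proper scheme of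
dimension `≤ 1` is numerically trivial. -/
theorem isNumEquivZero_dim_le_one (k : Type u) [Field k] (X : Scheme.{u}) [X.Over (Spec (CommRingCat.of k))]
    [IsProper (X ↘ Spec (CommRingCat.of k))] [IrreducibleSpace X] (hX : topologicalKrullDim X ≤ 1)
    (L : X.Modules) (hL : PicF.IsInvertible L)
    (h : FGA.eulerCharLE k X L 1 = FGA.eulerCharLE k X (Coh.structureModule X) 1) :
    Pic13.IsNumEquivZero k X L := by
  intro Y i _ hYint hY
  have hX' : topologicalKrullDim X ≤ (1 : ℕ) := by exact_mod_cast hX
  have hY' : topologicalKrullDim Y ≤ (1 : ℕ) := by rw [hY]; rfl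
  let _ : Y.Over (Spec (CommRingCat.of k)) := ⟨i ≫ (X ↘ Spec (CommRingCat.of k))⟩
  have hi : i ≫ (X ↘ Spec (CommRingCat.of k)) = Y ↘ Spec (CommRingCat.of k) := rfl
  have hsurj := range_eq_univ i hX hY
  have hU : Coh.IsCoh (Coh.structureModule X) := by
    have : IsNoetherian X := IntAdd.isNoetherian k X
    exact CurvesC.UnitCoh.isCoh_unit X
  obtain ⟨hfin, hmul⟩ := MultFinal.intNum_eq k X 1 hX' i hi (r := 1) (fun _ => L) (fun _ => hL) hY'
    (Coh.structureModule X) hU (by rw [hsurj]; exact Set.subset_univ _)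
  have hcons : ∀ (Z : Scheme.{u}) [Z.Over (Spec (CommRingCat.of k))] (N : Z.Modules),
      FGA.intNum k Z 1 (fun _ : Fin 1 => N) (Coh.structureModule Z) =
        FGA.eulerCharLE k Z (Coh.structureModule Z) 1 - FGA.eulerCharLE k Z N 1 := by
    intro Z _ N
    have e1 : (fun _ : Fin 1 => N) = (Fin.cons N (Fin.elim0 : Fin 0 → Z.Modules) : Fin 1 → Z.Modules) := by
      funext j
      have : j = 0 := Subsingleton.elim _ _
      subst this
      rfl
    rw [e1, intNum_cons, intNum_zero, intNum_zero, euler_iso k Z (Ega2.Tens.runit N)]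
  rw [hcons X L, hcons Y, h, sub_self] at hmul
  have hlen : Module.length (X.presheaf.stalk (i (genericPoint Y)))
      ((Coh.structureModule X).presheaf.stalk (i (genericPoint Y))) ≠ 0 := by
    exact MultForm.len_pos (mem_support_unit _)
  have hnz : ((Module.length (X.presheaf.stalk (i (genericPoint Y)))
      ((Coh.structureModule X).presheaf.stalk (i (genericPoint Y)))).toNat : ℤ) ≠ 0 := by
    intro h0
    have h0' := Int.natCast_eq_zero.mp h0
    rcases ENat.toNat_eq_zero.mp h0' with h1 | h1
    · exact hlen h1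
    · exact hfin h1
  have hfinal := (mul_eq_zero.mp hmul.symm).resolve_left hnz
  unfold Pic13.curveDeg
  change FGA.eulerCharLE k Y _ 1 - FGA.eulerCharLE k Y _ 1 = 0
  linarith

/-- **Numerical triviality from Euler characteristics of twists**, given the Hodge index theorem for `X`
(the statement `S4290` for `X, H, L`). -/
theorem isNumEquivZero_of_eulerChar_twists (k : Type u) [Field k] (X : Scheme.{u})
    [X.Over (Spec (CommRingCat.of k))] [IsProper (X ↘ Spec (CommRingCat.of k))] [IrreducibleSpace X]
    (d : ℕ) (hd : topologicalKrullDim X ≤ d) (H' L L' : X.Modules) (hL : PicF.IsInvertible L)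
    (h90 : ∀ s : ℕ, topologicalKrullDim X = (s + 2 : ℕ) →
      FGA.intNum k X (s + 2) (Matrix.vecCons L' (fun _ : Fin (s + 1) => H')) (Coh.structureModule X) = 0 →
      0 ≤ FGA.intNum k X (s + 2) (Matrix.vecCons L' (Matrix.vecCons L' (fun _ : Fin s => H')))
        (Coh.structureModule X) → Pic13.IsNumEquivZero k X L)
    (hv : ∀ m n : ℕ, FGA.eulerCharLE k X (CohB1.tensorMod (CohB1.tensorPow L' m) (CohB1.tensorPow H' n)) d =
      FGA.eulerCharLE k X (CohB1.tensorPow H' n) d)
    (hv' : FGA.eulerCharLE k X L d = FGA.eulerCharLE k X (Coh.structureModule X) d) :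
    Pic13.IsNumEquivZero k X L := by
  -- the dimension is a natural number
  obtain ⟨n, hn⟩ : ∃ n : ℕ, topologicalKrullDim X = (n : WithBot ℕ∞) := by
    have h0 := IntNum0.topologicalKrullDim_nonneg X
    generalize topologicalKrullDim X = x at hd h0
    induction x using WithBot.recBotCoe with
    | bot => exact absurd h0 (by simp)
    | coe x =>
      induction x using ENat.recTopCoe with
      | top =>
        exfalso
        have : ((⊤ : ℕ∞) : WithBot ℕ∞) ≤ ((d : ℕ∞) : WithBot ℕ∞) := hd
        rw [WithBot.coe_le_coe] at this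
        exact absurd (top_le_iff.mp this) (ENat.natCast_ne_top d)
      | coe x => exact ⟨x, rfl⟩
  by_cases h1 : n ≤ 1
  · have hX : topologicalKrullDim X ≤ (1 : ℕ) := by rw [hn]; exact_mod_cast h1
    refine isNumEquivZero_dim_le_one k X (by exact_mod_cast hX) L hL ?_
    rw [euler_eq_euler k X 1 d hX hd, euler_eq_euler k X 1 d hX hd, hv']
  · obtain ⟨s, rfl⟩ : ∃ s, n = s + 2 := ⟨n - 2, by omega⟩
    have hs : topologicalKrullDim X ≤ (s + 2 : ℕ) := by rw [hn]
    have hφ : ∀ m n : ℕ, chiCl k X (s + 2) (Coh.structureModule X) (mc L' ^ m * mc H' ^ n) =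
        chiCl k X (s + 2) (Coh.structureModule X) (mc H' ^ n) := by
      intro m n
      rw [← mc_tensorPow, ← mc_tensorPow, ← mc_tensor, chiCl_mc, chiCl_mc,
        euler_iso k X (Ega2.Tens.runit _), euler_iso k X (Ega2.Tens.runit (CohB1.tensorPow H' n)),
        euler_eq_euler k X (s + 2) d hs hd, euler_eq_euler k X (s + 2) d hs hd, hv m n]
    refine h90 s hn ?_ (le_of_eq ?_)
    · rw [intNum_eq_dSum]
      have : (fun i => mc ((Matrix.vecCons L' (fun _ : Fin (s + 1) => H') : Fin (s + 2) → X.Modules) i)) =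
          (Fin.cons (mc L') (fun _ : Fin (s + 1) => mc H') : Fin (s + 2) → MC X) := mc_cons X L' _
      rw [this]
      exact dSum_cons_const _ _ _ _ fun n => by simpa using hφ 1 n
    · symm
      rw [intNum_eq_dSum]
      have : (fun i => mc ((Matrix.vecCons L' (Matrix.vecCons L' (fun _ : Fin s => H')) :
          Fin (s + 2) → X.Modules) i)) =
          (Fin.cons (mc L') (Fin.cons (mc L') (fun _ : Fin s => mc H') : Fin (s + 1) → MC X) :
            Fin (s + 2) → MC X) := by
        refine (mc_cons X L' _).trans ?_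
        congr 1
        exact mc_cons X L' _
      rw [this]
      exact dSum_cons_cons_const _ _ _ _ hφ

end Groth.Agent.Pic13.H972.Glue
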