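import Mathlib.AlgebraicGeometry.AffineScheme
import Mathlib.AlgebraicGeometry.FunctionField

/-!
# Points of an affine open as prime ideals
-/

set_option autoImplicit false
universe u
open CategoryTheory CategoryTheory.Limits AlgebraicGeometry Opposite TopologicalSpace

namespace Groth.Agent.Pic13.H972.AffPts

variable {Y : Scheme.{u}} {V : Y.Opens} (hV : IsAffineOpen V)

/-- The point of `V` attached to a prime ideal. -/
noncomputable def pt (P : PrimeSpectrum Γ(Y, V)) : Y := hV.fromSpec (show Spec Γ(Y, V) from P)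

theorem pt_mem (P : PrimeSpectrum Γ(Y, V)) : pt hV P ∈ V := by
  have : pt hV P ∈ Set.range hV.fromSpec := ⟨_, rfl⟩
  rwa [hV.range_fromSpec] at this

theorem exists_pt {y : Y} (hy : y ∈ V) : ∃ P : PrimeSpectrum Γ(Y, V), pt hV P = y := by
  have : y ∈ Set.range hV.fromSpec := by rw [hV.range_fromSpec]; exact hy
  exact this

theorem pt_injective : Function.Injective (pt hV) := hV.fromSpec.isOpenEmbedding.injective

theorem pt_mem_basicOpen (P : PrimeSpectrum Γ(Y, V)) (g : Γ(Y, V)) :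
    pt hV P ∈ Y.basicOpen g ↔ g ∉ P.asIdeal := by
  have h := hV.fromSpec_preimage_basicOpen g
  have h2 : (show Spec Γ(Y, V) from P) ∈ hV.fromSpec ⁻¹ᵁ Y.basicOpen g ↔
      (show Spec Γ(Y, V) from P) ∈ (PrimeSpectrum.basicOpen g : (Spec Γ(Y, V)).Opens) :=
    Iff.of_eq (congrArg ((show Spec Γ(Y, V) from P) ∈ ·) h)
  exact h2

theorem pt_specializes (P Q : PrimeSpectrum Γ(Y, V)) : pt hV P ⤳ pt hV Q ↔ P.asIdeal ≤ Q.asIdeal := by
  have h := hV.fromSpec.isOpenEmbedding.isInducing.specializes_iff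
    (x := (show Spec Γ(Y, V) from P)) (y := (show Spec Γ(Y, V) from Q))
  refine h.trans ?_
  exact (PrimeSpectrum.le_iff_specializes P Q).symm

/-- Compatibility with a morphism. -/
theorem map_pt {Y' : Scheme.{u}} (π : Y' ⟶ Y) (hV' : IsAffineOpen (π ⁻¹ᵁ V))
    (P : PrimeSpectrum Γ(Y', π ⁻¹ᵁ V)) :
    π (pt hV' P) = pt hV (PrimeSpectrum.comap (π.app V).hom P) := by
  have h := hV.SpecMap_appLE_fromSpec π hV' le_rfl
  have h2 := congrArg (fun f => f (show Spec Γ(Y', π ⁻¹ᵁ V) from P)) h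
  simp only [Scheme.Hom.comp_apply] at h2
  rw [pt, ← h2, Scheme.Hom.appLE_eq_app]
  rfl

section Integral

variable [IsIntegral Y]

theorem pt_bot (hne : (V : Set Y).Nonempty) : 
    ∃ h : (⊥ : Ideal Γ(Y, V)).IsPrime, pt hV ⟨⊥, h⟩ = genericPoint Y := by
  have : Nonempty V := hne.to_subtype
  refine ⟨Ideal.isPrime_bot, ?_⟩
  obtain ⟨y, hy⟩ := hne
  have hgV : genericPoint Y ∈ V := (genericPoint_specializes y).mem_open V.isOpen hy
  obtain ⟨Q, hQ⟩ := exists_pt hV hgV
  refine Specializes.antisymm ?_ (genericPoint_specializes _) |>.eq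
  rw [← hQ, pt_specializes]
  exact bot_le

theorem pt_eq_genericPoint_iff (P : PrimeSpectrum Γ(Y, V)) :
    pt hV P = genericPoint Y ↔ P.asIdeal = ⊥ := by
  obtain ⟨h, e⟩ := pt_bot hV ⟨_, pt_mem hV P⟩
  rw [← e, (pt_injective hV).eq_iff, PrimeSpectrum.ext_iff]

end Integral

end Groth.Agent.Pic13.H972.AffPts
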