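import Mathlib.Topology.Sober
import Mathlib.Topology.Irreducible

/-!
# A closed subset with a unique minimal point is irreducible
-/

set_option autoImplicit false

namespace Groth.Agent.Pic13.H972.TopIrr

variable {T : Type*} [TopologicalSpace T] [QuasiSober T] [T0Space T]

/-- Every point of a closed subset specializes from a point without generizations in the subset. -/
theorem exists_minimal (D : Set T) (hD : IsClosed D) {y : T} (hy : y ∈ D) :
    ∃ δ ∈ D, δ ⤳ y ∧ ∀ z ∈ D, z ⤳ δ → z = δ := by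
  have : QuasiSober D := (hD.isClosedEmbedding_subtypeVal).quasiSober
  obtain ⟨Z, hZ1, hZ2, hZ3⟩ := exists_preirreducible ({⟨y, hy⟩} : Set D) isPreirreducible_singleton
  have hZne : Z.Nonempty := ⟨⟨y, hy⟩, hZ2 rfl⟩
  have hZc : IsClosed Z := by
    have h1 := hZ3 (closure Z) hZ1.closure subset_closure
    rw [← h1]; exact isClosed_closure
  have hirr : IsIrreducible Z := ⟨hZne, hZ1⟩
  have hgen := hirr.isGenericPoint_genericPoint hZc
  set δ := hirr.genericPoint with hδ
  refine ⟨δ.1, δ.2, ?_, ?_⟩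
  · have h1 : δ ⤳ (⟨y, hy⟩ : D) := hgen.specializes (hZ2 rfl)
    exact h1.map continuous_subtype_val
  · intro z hz hzδ
    have h2 : (⟨z, hz⟩ : D) ⤳ δ := (Topology.IsInducing.subtypeVal.specializes_iff).mp hzδ
    have h3 : Z ⊆ closure {(⟨z, hz⟩ : D)} := by
      rw [← hgen]
      exact specializes_iff_closure_subset.mp h2
    have h4 := hZ3 _ isPreirreducible_singleton.closure h3
    have h5 : IsGenericPoint (⟨z, hz⟩ : D) Z := h4
    have h6 : (⟨z, hz⟩ : D) = δ := h5.eq hgen
    exact congrArg Subtype.val h6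

/-- If the points of a nonempty closed subset without generizations in it agree, the subset is the closure of a point. -/
theorem exists_eq_closure (D : Set T) (hD : IsClosed D) (hne : D.Nonempty)
    (h : ∀ y₁ ∈ D, ∀ y₂ ∈ D, (∀ z ∈ D, z ⤳ y₁ → z = y₁) → (∀ z ∈ D, z ⤳ y₂ → z = y₂) → y₁ = y₂) :
    ∃ δ ∈ D, (∀ z ∈ D, z ⤳ δ → z = δ) ∧ D = closure {δ} := by
  obtain ⟨y, hy⟩ := hne
  obtain ⟨δ, hδ, -, hmin⟩ := exists_minimal D hD hy
  refine ⟨δ, hδ, hmin, Set.Subset.antisymm (fun x hx => ?_) (hD.closure_subset_iff.mpr (by simpa using hδ))⟩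
  obtain ⟨δ', hδ', h1, h2⟩ := exists_minimal D hD hx
  rw [← h δ hδ δ' hδ' hmin h2] at h1
  exact specializes_iff_mem_closure.mp h1

end Groth.Agent.Pic13.H972.TopIrr
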