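import Groth.Agent.Pic13.H972.GenMemGeo
import Groth.Agent.Pic13.H972.TopIrr
import Groth.Agent.Pic13.H972.AffPts
import Groth.Agent.Ega2.WeightPull
import Mathlib.AlgebraicGeometry.Noetherian
import Mathlib.RingTheory.LocalProperties.Reduced

/-!
# The generic member of a pencil

`Y` an integral locally Noetherian scheme over a field `K`, `A` invertible, `s₀, s₁ : O ⟶ A` such that every point of
`V(s₀, s₁)` has a proper generization different from the generic point. On the base change `Y'` of `Y` to `L = K(t)`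
the zero locus of `σ = s₀ + t s₁` is irreducible (or empty), its generic point lies over the generic point of `Y`.
-/

set_option autoImplicit false
universe u
open CategoryTheory CategoryTheory.Limits AlgebraicGeometry Opposite TopologicalSpace

namespace Groth.Agent.Pic13.H972.GenMem

open Polynomial GenMemAlg GenMemGeo AffPts TopIrr Groth.Agent.Fdesc.LocGen Groth.Agent.Ega2.Weight

variable {K : Type u} [Field K] {L : Type u} [Field L] [Algebra K[X] L] [IsFractionRing K[X] L] [Algebra K L]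
  [IsScalarTower K K[X] L] {Y Y' : Scheme.{u}} {p : Y ⟶ Spec (CommRingCat.of K)}
  {π : Y' ⟶ Y} {p' : Y' ⟶ Spec (CommRingCat.of L)}

variable (K) in
/-- The function `t` on an open subset of `Y'`. -/
noncomputable def tOn (p' : Y' ⟶ Spec (CommRingCat.of L)) (V : Y'.Opens) : Γ(Y', V) :=
  ores le_top (tt (K := K) p')

omit [Algebra K[X] L] [IsFractionRing K[X] L] [IsScalarTower K K[X] L] in
theorem isAffineHom (H : IsPullback π p' p (Spec.map (CommRingCat.ofHom (algebraMap K L)))) : IsAffineHom π :=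
  MorphismProperty.of_isPullback (P := @IsAffineHom) H.flip inferInstance

/-- The facts on sections over the preimage of an affine open of an integral scheme. -/
theorem sections_facts (H : IsPullback π p' p (Spec.map (CommRingCat.ofHom (algebraMap K L)))) [IsIntegral Y]
    (U : Y.Opens) (hU : IsAffineOpen U) (hne : (U : Set Y).Nonempty) :
    IsDomain Γ(Y', π ⁻¹ᵁ U) ∧ Function.Injective (π.app U).hom ∧
      ∀ a₀ a₁ : Γ(Y, U), π.app U a₀ + tOn K p' (π ⁻¹ᵁ U) * π.app U a₁ = 0 → a₀ = 0 ∧ a₁ = 0 := by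
  obtain ⟨alg, hloc, hC, hX⟩ := exists_loc p H U hU
  let := alg
  have : Nonempty U := hne.to_subtype
  have hM : Submonoid.map (Polynomial.mapRingHom (kmap p U)) (nonZeroDivisors K[X]) ≤
      nonZeroDivisors Γ(Y, U)[X] := by
    rintro _ ⟨q, hq, rfl⟩
    rw [mem_nonZeroDivisors_iff_ne_zero]
    intro h0
    have hq' : q ≠ 0 := nonZeroDivisors.ne_zero hq
    apply hq'
    have : q.map (kmap p U) = 0 := h0
    exact (Polynomial.map_eq_zero_iff (kmap p U).injective).mp this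
  have hinj : Function.Injective (algebraMap Γ(Y, U)[X] Γ(Y', π ⁻¹ᵁ U)) := IsLocalization.injective _ hM
  refine ⟨IsLocalization.isDomain_of_le_nonZeroDivisors _ hM, ?_, ?_⟩
  · intro a b hab
    have h1 : algebraMap Γ(Y, U)[X] Γ(Y', π ⁻¹ᵁ U) (C a) = algebraMap _ _ (C b) := by
      rw [show algebraMap Γ(Y, U)[X] Γ(Y', π ⁻¹ᵁ U) (C a) = π.app U a from hC a,
        show algebraMap Γ(Y, U)[X] Γ(Y', π ⁻¹ᵁ U) (C b) = π.app U b from hC b]
      exact hab
    exact C_injective (hinj h1)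
  · intro a₀ a₁ h
    have h1 : algebraMap Γ(Y, U)[X] Γ(Y', π ⁻¹ᵁ U) (lin a₀ a₁) = 0 := by
      rw [lin, map_add, map_mul, show algebraMap Γ(Y, U)[X] Γ(Y', π ⁻¹ᵁ U) (C a₀) = π.app U a₀ from hC a₀,
        show algebraMap Γ(Y, U)[X] Γ(Y', π ⁻¹ᵁ U) (C a₁) = π.app U a₁ from hC a₁,
        show algebraMap Γ(Y, U)[X] Γ(Y', π ⁻¹ᵁ U) X = _ from hX, mul_comm]
      exact h
    have h2 : lin a₀ a₁ = 0 := hinj (by rw [h1, map_zero])
    constructor
    · simpa [lin] using congrArg (fun q => q.coeff 0) h2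
    · simpa [lin, coeff_C] using congrArg (fun q => q.coeff 1) h2

section Point

variable [IsIntegral Y]

/-- The generic point of `Y'`, and irreducibility of `Y'`. -/
theorem exists_generic (H : IsPullback π p' p (Spec.map (CommRingCat.ofHom (algebraMap K L)))) :
    ∃ δ : Y', π δ = genericPoint Y ∧ (Set.univ : Set Y') = closure {δ} := by
  have haff := isAffineHom H
  -- minimal points
  have hmin : ∀ (U : Y.Opens) (hU : IsAffineOpen U) (P : PrimeSpectrum Γ(Y', π ⁻¹ᵁ U)),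
      (∀ z ∈ (Set.univ : Set Y'), z ⤳ pt (hU.preimage π) P → z = pt (hU.preimage π) P) → P.asIdeal = ⊥ := by
    intro U hU P hP
    have hne : (U : Set Y).Nonempty := ⟨_, by
      have h := pt_mem (hU.preimage π) P
      exact h⟩
    obtain ⟨hdom, -, -⟩ := sections_facts H U hU hne
    have h1 := hP (pt (hU.preimage π) ⟨⊥, Ideal.isPrime_bot⟩) trivial (by rw [pt_specializes]; exact bot_le)
    have h2 := pt_injective _ h1
    rw [← h2]
  obtain ⟨y₀⟩ : Nonempty Y := inferInstance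
  obtain ⟨U₀, hU₀, hy₀, -⟩ := Y.isBasis_affineOpens.exists_subset_of_mem_open (Set.mem_univ y₀) isOpen_univ
  have hU₀' : IsAffineOpen (⟨U₀, Y.isBasis_affineOpens.isOpen hU₀⟩ : Y.Opens) := by
    obtain ⟨V, hV, hVe⟩ := hU₀
    have : (⟨U₀, Y.isBasis_affineOpens.isOpen ⟨V, hV, hVe⟩⟩ : Y.Opens) = V := Opens.ext hVe.symm
    rw [this]; exact hV
  obtain ⟨hdom₀, -, -⟩ := sections_facts H _ hU₀' ⟨y₀, hy₀⟩
  have hne : (Set.univ : Set Y').Nonempty := ⟨pt (hU₀'.preimage π) ⟨⊥, Ideal.isPrime_bot⟩, trivial⟩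
  have hgen : ∀ y : Y', (∀ z ∈ (Set.univ : Set Y'), z ⤳ y → z = y) → π y = genericPoint Y := by
    intro y hy
    obtain ⟨V, hV, hyV, -⟩ := exists_isAffineOpen_mem_and_subset (U := ⊤) (x := π y) trivial
    obtain ⟨P, rfl⟩ := exists_pt (hV.preimage π) (y := y) hyV
    have hP := hmin V hV P hy
    rw [map_pt hV π (hV.preimage π), pt_eq_genericPoint_iff]
    rw [PrimeSpectrum.comap_asIdeal, hP]
    obtain ⟨-, hinj, -⟩ := sections_facts H V hV ⟨_, hyV⟩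
    exact (RingHom.injective_iff_ker_eq_bot _).mp hinj
  obtain ⟨δ, -, hδ1, hδ2⟩ := exists_eq_closure (Set.univ : Set Y') isClosed_univ hne (by
    intro y₁ _ y₂ _ h₁ h₂
    have e1 := hgen y₁ h₁
    have e2 := hgen y₂ h₂
    obtain ⟨V, hV, hyV, -⟩ := exists_isAffineOpen_mem_and_subset (U := ⊤) (x := π y₁) trivial
    have hyV2 : π y₂ ∈ V := by rw [e2, ← e1]; exact hyV
    obtain ⟨P₁, rfl⟩ := exists_pt (hV.preimage π) (y := y₁) hyV
    obtain ⟨P₂, rfl⟩ := exists_pt (hV.preimage π) (y := y₂) hyV2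
    have h3 := hmin V hV P₁ h₁
    have h4 := hmin V hV P₂ h₂
    congr 1
    exact PrimeSpectrum.ext (h3.trans h4.symm))
  exact ⟨δ, hgen δ hδ1, hδ2⟩

/-- The base change of an integral scheme to `K(t)` is integral. -/
theorem isIntegral (H : IsPullback π p' p (Spec.map (CommRingCat.ofHom (algebraMap K L)))) : IsIntegral Y' := by
  have haff := isAffineHom H
  obtain ⟨δ, -, hδ⟩ := exists_generic H
  have h1 : IrreducibleSpace Y' := by
    have : IsIrreducible (Set.univ : Set Y') := by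
      rw [hδ]; exact isIrreducible_singleton.closure
    exact (irreducibleSpace_def Y').mpr this
  have h2 : IsReduced Y' := by
    have : ∀ y : Y', _root_.IsReduced (Y'.presheaf.stalk y) := by
      intro y
      obtain ⟨V, hV, hyV, -⟩ := exists_isAffineOpen_mem_and_subset (U := ⊤) (x := π y) trivial
      obtain ⟨hdom, -, -⟩ := sections_facts H V hV ⟨_, hyV⟩
      have hloc := (hV.preimage π).isLocalization_stalk ⟨y, hyV⟩
      have hred : _root_.IsReduced Γ(Y', π ⁻¹ᵁ V) := inferInstance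
      exact @isReduced_localizationPreserves Γ(Y', π ⁻¹ᵁ V) _
        ((hV.preimage π).primeIdealOf ⟨y, hyV⟩).asIdeal.primeCompl (Y'.presheaf.stalk y) _
        (TopCat.Presheaf.algebra_section_stalk Y'.presheaf (⟨y, hyV⟩ : ↥(π ⁻¹ᵁ V))) hloc hred
    exact isReduced_of_isReduced_stalk Y'
  exact isIntegral_of_irreducibleSpace_of_isReduced Y'

end Point

section Sigma

variable (π) (p') {A : Y.Modules} (s₀ s₁ : Coh.structureModule Y ⟶ A)

variable (K) in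
/-- The section `σ = s₀ + t s₁` of the pullback of `A`. -/
noncomputable def sigma : Coh.structureModule Y' ⟶ (Scheme.Modules.pullback π).obj A :=
  homOf (show Γ((Scheme.Modules.pullback π).obj A, ⊤) from
    (pullSec π (sec s₀ ⊤) + (show Γ(Y', π ⁻¹ᵁ ⊤) from tt (K := K) p') • pullSec π (sec s₁ ⊤)))

omit [IsFractionRing K[X] L] [Algebra K L] [IsScalarTower K K[X] L] in
theorem sec_sigma (U : Y.Opens) : sec (sigma K π p' s₀ s₁) (π ⁻¹ᵁ U) =
    pullSec π (sec s₀ U) + tOn K p' (π ⁻¹ᵁ U) • pullSec π (sec s₁ U) := by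
  rw [sigma, sec_homOf]
  have h0 : pullSec π (sec s₀ U) = res _ (π.preimage_mono (le_top : U ≤ ⊤)) (pullSec π (sec s₀ ⊤)) := by
    rw [res_pullSec π (le_top : U ≤ ⊤), res_sec]
  have h1 : pullSec π (sec s₁ U) = res _ (π.preimage_mono (le_top : U ≤ ⊤)) (pullSec π (sec s₁ ⊤)) := by
    rw [res_pullSec π (le_top : U ≤ ⊤), res_sec]
  rw [h0, h1]
  exact (map_add (res _ _) _ _).trans (congrArg _ (res_smul _ _ _ _))

omit [IsFractionRing K[X] L] [Algebra K L] [IsScalarTower K K[X] L] in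
theorem genLocus_sigma {U : Y.Opens} {e : Γ(A, U)} (he : IsGen e) {a₀ a₁ : Γ(Y, U)}
    (h0 : sec s₀ U = a₀ • e) (h1 : sec s₁ U = a₁ • e) :
    CohB1.genLocus _ (sigma K π p' s₀ s₁) ⊓ π ⁻¹ᵁ U =
      Y'.basicOpen ((π.app U a₀ : Γ(Y', π ⁻¹ᵁ U)) + tOn K p' (π ⁻¹ᵁ U) * π.app U a₁) := by
  refine genLocus_inf_eq _ (he.pullSec π) ?_
  rw [sec_sigma, h0, h1, pullSec_smul, pullSec_smul, smul_smul, add_smul]

variable {π p'}

/-- Points over the common zeros of `s₀, s₁` are zeros of `σ`. -/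
theorem notMem_genLocus_sigma (hA : PicF.IsInvertible A) {y : Y'} (h0 : π y ∉ CohB1.genLocus A s₀)
    (h1 : π y ∉ CohB1.genLocus A s₁) : y ∉ CohB1.genLocus _ (sigma K π p' s₀ s₁) := by
  intro hy
  obtain ⟨U, e, hyU', he⟩ := (isInvertible_iff A).mp hA (π y)
  have hyU : y ∈ π ⁻¹ᵁ U := hyU'
  obtain ⟨a₀, ha₀⟩ := he.exists_eq (sec s₀ U)
  obtain ⟨a₁, ha₁⟩ := he.exists_eq (sec s₁ U)
  have h2 : y ∈ CohB1.genLocus _ (sigma K π p' s₀ s₁) ⊓ π ⁻¹ᵁ U := ⟨hy, hyU⟩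
  rw [genLocus_sigma π p' s₀ s₁ he ha₀ ha₁, Scheme.mem_basicOpen _ _ _ hyU, map_add, map_mul] at h2
  have key : ∀ (s : Coh.structureModule Y ⟶ A) (a : Γ(Y, U)), sec s U = a • e → π y ∉ CohB1.genLocus A s →
      ¬ IsUnit (Y'.presheaf.germ (π ⁻¹ᵁ U) y hyU (π.app U a)) := by
    intro s a ha hs hu
    have h3 : y ∈ Y'.basicOpen (π.app U a) := by rw [Scheme.mem_basicOpen _ _ _ hyU]; exact hu
    rw [← Scheme.preimage_basicOpen, ← genLocus_inf_eq s he ha] at h3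
    exact hs h3.1
  have k0 := key s₀ a₀ ha₀ h0
  have k1 := key s₁ a₁ ha₁ h1
  have := (IsLocalRing.maximalIdeal (Y'.presheaf.stalk y)).add_mem
    ((IsLocalRing.mem_maximalIdeal _).mpr k0)
    (Ideal.mul_mem_left _ (Y'.presheaf.germ (π ⁻¹ᵁ U) y hyU (tOn K p' (π ⁻¹ᵁ U)))
      ((IsLocalRing.mem_maximalIdeal _).mpr k1))
  exact ((IsLocalRing.mem_maximalIdeal _).mp this) h2

variable [IsIntegral Y] [IsLocallyNoetherian Y]
  (hB : ∀ b : Y, b ∉ CohB1.genLocus A s₀ → b ∉ CohB1.genLocus A s₁ → ∃ ξ : Y, ξ ⤳ b ∧ ξ ≠ b ∧ ξ ≠ genericPoint Y)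

include hB in
omit [IsLocallyNoetherian Y] in
/-- The condition `hB` on primes of an affine open. -/
theorem hB_prime {U : Y.Opens} (hU : IsAffineOpen U) {e : Γ(A, U)} (he : IsGen e) {a₀ a₁ : Γ(Y, U)}
    (h0 : sec s₀ U = a₀ • e) (h1 : sec s₁ U = a₁ • e) (P : Ideal Γ(Y, U)) (hP : P.IsPrime) (k0 : a₀ ∈ P)
    (k1 : a₁ ∈ P) : ∃ q : Ideal Γ(Y, U), q.IsPrime ∧ q < P ∧ q ≠ ⊥ := by
  have hb : ∀ (s : Coh.structureModule Y ⟶ A) (a : Γ(Y, U)), sec s U = a • e → a ∈ P →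
      pt hU ⟨P, hP⟩ ∉ CohB1.genLocus A s := by
    intro s a ha haP hs
    have h3 : pt hU ⟨P, hP⟩ ∈ CohB1.genLocus A s ⊓ U := ⟨hs, pt_mem hU _⟩
    rw [genLocus_inf_eq s he ha, pt_mem_basicOpen] at h3
    exact h3 haP
  obtain ⟨ξ, hξ1, hξ2, hξ3⟩ := hB _ (hb s₀ a₀ h0 k0) (hb s₁ a₁ h1 k1)
  have hξU : ξ ∈ U := hξ1.mem_open U.isOpen (pt_mem hU _)
  obtain ⟨Q, rfl⟩ := exists_pt hU hξU
  rw [pt_specializes] at hξ1
  refine ⟨Q.asIdeal, Q.isPrime, lt_of_le_of_ne hξ1 ?_, ?_⟩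
  · intro h
    exact hξ2 (congrArg _ (PrimeSpectrum.ext h))
  · intro h
    exact hξ3 ((pt_eq_genericPoint_iff hU Q).mpr h)

include hB in
/-- **The generic member**: the zero locus of `σ` is empty or the closure of a point over the generic point. -/
theorem exists_closure (H : IsPullback π p' p (Spec.map (CommRingCat.ofHom (algebraMap K L))))
    (hA : PicF.IsInvertible A) (hne : ∃ y : Y', y ∉ CohB1.genLocus _ (sigma K π p' s₀ s₁)) :
    ∃ δ : Y', π δ = genericPoint Y ∧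
      ((CohB1.genLocus _ (sigma K π p' s₀ s₁) : Set Y')ᶜ) = closure {δ} := by
  have haff := isAffineHom H
  set D : Set Y' := ((CohB1.genLocus _ (sigma K π p' s₀ s₁) : Set Y')ᶜ) with hD
  have hDc : IsClosed D := (CohB1.genLocus _ (sigma K π p' s₀ s₁)).isOpen.isClosed_compl
  -- affine trivializing neighbourhoods
  have hnbd : ∀ x : Y, ∃ (U : Y.Opens) (_ : IsAffineOpen U) (e : Γ(A, U)) (a₀ a₁ : Γ(Y, U)), x ∈ U ∧ IsGen e ∧
      sec s₀ U = a₀ • e ∧ sec s₁ U = a₁ • e := by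
    intro x
    obtain ⟨W, e, hx, he⟩ := (isInvertible_iff A).mp hA x
    obtain ⟨U, hU, hxU, hUW⟩ := exists_isAffineOpen_mem_and_subset (U := W) hx
    have he' := he.res hUW
    obtain ⟨a₀, ha₀⟩ := he'.exists_eq (sec s₀ U)
    obtain ⟨a₁, ha₁⟩ := he'.exists_eq (sec s₁ U)
    exact ⟨U, hU, _, a₀, a₁, hxU, he', ha₀, ha₁⟩
  have hmem : ∀ (U : Y.Opens) (hU : IsAffineOpen U) (e : Γ(A, U)) (a₀ a₁ : Γ(Y, U)) (_ : IsGen e)
      (_ : sec s₀ U = a₀ • e) (_ : sec s₁ U = a₁ • e) (P : PrimeSpectrum Γ(Y', π ⁻¹ᵁ U)),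
      pt (hU.preimage π) P ∈ D ↔
        ((π.app U a₀ : Γ(Y', π ⁻¹ᵁ U)) + tOn K p' (π ⁻¹ᵁ U) * π.app U a₁) ∈ P.asIdeal := by
    intro U hU e a₀ a₁ he h0 h1 P
    have h2 := genLocus_sigma (K := K) π p' s₀ s₁ he h0 h1
    have h3 : pt (hU.preimage π) P ∈ CohB1.genLocus _ (sigma K π p' s₀ s₁) ↔
        pt (hU.preimage π) P ∈ CohB1.genLocus _ (sigma K π p' s₀ s₁) ⊓ π ⁻¹ᵁ U :=
      ⟨fun h => ⟨h, pt_mem _ _⟩, fun h => h.1⟩
    rw [hD, Set.mem_compl_iff, SetLike.mem_coe, h3, h2, pt_mem_basicOpen, not_not]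
  -- the linear polynomial
  have hlin : ∀ (U : Y.Opens) (hU : IsAffineOpen U) (a₀ a₁ : Γ(Y, U)),
      ∃ (alg : Algebra Γ(Y, U)[X] Γ(Y', π ⁻¹ᵁ U)),
      @IsLocalization _ _ (Submonoid.map (Polynomial.mapRingHom (kmap p U)) (nonZeroDivisors K[X])) _ _ alg ∧
      alg.algebraMap.comp C = (π.app U).hom ∧
      alg.algebraMap (lin a₀ a₁) =
        (π.app U a₀ : Γ(Y', π ⁻¹ᵁ U)) + tOn K p' (π ⁻¹ᵁ U) * π.app U a₁ := by
    intro U hU a₀ a₁
    obtain ⟨alg, hloc, hC, hX⟩ := exists_loc p H U hU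
    refine ⟨alg, hloc, RingHom.ext hC, ?_⟩
    rw [lin, map_add, map_mul, hC, hC, hX, mul_comm]
    rfl
  have hmin : ∀ y ∈ D, (∀ z ∈ D, z ⤳ y → z = y) → π y = genericPoint Y := by
    intro y hy hy2
    obtain ⟨U, hU, e, a₀, a₁, hyU, he, h0, h1⟩ := hnbd (π y)
    obtain ⟨P, rfl⟩ := exists_pt (hU.preimage π) (y := y) hyU
    obtain ⟨alg, hloc, hcomp, hl⟩ := hlin U hU a₀ a₁
    let := alg
    have hg := (hmem U hU e a₀ a₁ he h0 h1 P).mp hy
    have hPmin : P.asIdeal ∈ (Ideal.span {algebraMap Γ(Y, U)[X] Γ(Y', π ⁻¹ᵁ U) (lin a₀ a₁)}).minimalPrimes := by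
      rw [hl]
      refine ⟨⟨P.isPrime, (Ideal.span_singleton_le_iff_mem _).mpr hg⟩, ?_⟩
      rintro Q ⟨hQ, hQ2⟩ hQP
      have h3 := hy2 (pt (hU.preimage π) ⟨Q, hQ⟩)
        ((hmem U hU e a₀ a₁ he h0 h1 _).mpr ((Ideal.span_singleton_le_iff_mem _).mp hQ2))
        (by rw [pt_specializes]; exact hQP)
      have h4 := pt_injective _ h3
      rw [← h4]
    have : Nonempty U := ⟨⟨_, hyU⟩⟩
    have : IsNoetherianRing Γ(Y, U) := IsLocallyNoetherian.component_noetherian ⟨U, hU⟩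
    have h5 := comap_eq_bot_loc (Submonoid.map (Polynomial.mapRingHom (kmap p U)) (nonZeroDivisors K[X])) a₀ a₁
      (hB_prime s₀ s₁ hB hU he h0 h1) P.asIdeal hPmin
    rw [map_pt hU π (hU.preimage π), pt_eq_genericPoint_iff, PrimeSpectrum.comap_asIdeal, ← h5]
    exact congrArg (fun f => Ideal.comap f P.asIdeal) hcomp.symm
  obtain ⟨δ, hδD, hδ1, hδ2⟩ := exists_eq_closure D hDc hne (by
    intro y₁ hy₁ y₂ hy₂ h₁ h₂
    have e1 := hmin y₁ hy₁ h₁
    have e2 := hmin y₂ hy₂ h₂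
    obtain ⟨U, hU, e, a₀, a₁, hyU, he, h0, h1⟩ := hnbd (π y₁)
    have hyU2 : π y₂ ∈ U := by rw [e2, ← e1]; exact hyU
    obtain ⟨P₁, rfl⟩ := exists_pt (hU.preimage π) (y := y₁) hyU
    obtain ⟨P₂, rfl⟩ := exists_pt (hU.preimage π) (y := y₂) hyU2
    obtain ⟨alg, hloc, hcomp, hl⟩ := hlin U hU a₀ a₁
    let := alg
    have : Nonempty U := ⟨⟨_, hyU⟩⟩
    have : IsNoetherianRing Γ(Y, U) := IsLocallyNoetherian.component_noetherian ⟨U, hU⟩
    have g1 := (hmem U hU e a₀ a₁ he h0 h1 P₁).mp hy₁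
    have g2 := (hmem U hU e a₀ a₁ he h0 h1 P₂).mp hy₂
    rw [map_pt hU π (hU.preimage π), pt_eq_genericPoint_iff, PrimeSpectrum.comap_asIdeal] at e1 e2
    have ha₁ : a₁ ≠ 0 := by
      intro h
      rw [h, map_zero, mul_zero, add_zero] at g1
      have h2 : a₀ ∈ Ideal.comap (π.app U).hom P₁.asIdeal := g1
      rw [e1, Ideal.mem_bot] at h2
      obtain ⟨q, -, hq, -⟩ := hB_prime s₀ s₁ hB hU he h0 h1 ⊥ Ideal.isPrime_bot
        (by rw [h2]; exact Ideal.zero_mem _) (by rw [h]; exact Ideal.zero_mem _)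
      exact not_lt_bot hq
    have h3 := eq_of_comap_eq_bot_loc (Submonoid.map (Polynomial.mapRingHom (kmap p U)) (nonZeroDivisors K[X]))
      a₀ a₁ ha₁ P₁.asIdeal P₂.asIdeal
      (by rw [← e1]; exact congrArg (fun f => Ideal.comap f P₁.asIdeal) hcomp)
      (by rw [← e2]; exact congrArg (fun f => Ideal.comap f P₂.asIdeal) hcomp)
      (by rw [show algebraMap Γ(Y, U)[X] Γ(Y', π ⁻¹ᵁ U) (lin a₀ a₁) = _ from hl]; exact g1)
      (by rw [show algebraMap Γ(Y, U)[X] Γ(Y', π ⁻¹ᵁ U) (lin a₀ a₁) = _ from hl]; exact g2)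
    exact congrArg _ (PrimeSpectrum.ext h3))
  exact ⟨δ, hmin δ hδD hδ1, hδ2⟩

include hB in
/-- The section `σ` generates at the generic point. -/
theorem exists_mem_genLocus_sigma (H : IsPullback π p' p (Spec.map (CommRingCat.ofHom (algebraMap K L))))
    (hA : PicF.IsInvertible A) : ∃ y : Y', y ∈ CohB1.genLocus _ (sigma K π p' s₀ s₁) := by
  have haff := isAffineHom H
  obtain ⟨x⟩ : Nonempty Y := inferInstance
  obtain ⟨W, e, hx, he⟩ := (isInvertible_iff A).mp hA x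
  obtain ⟨U, hU, hxU, hUW⟩ := exists_isAffineOpen_mem_and_subset (U := W) hx
  have he' := he.res hUW
  obtain ⟨a₀, ha₀⟩ := he'.exists_eq (sec s₀ U)
  obtain ⟨a₁, ha₁⟩ := he'.exists_eq (sec s₁ U)
  have : Nonempty U := ⟨⟨_, hxU⟩⟩
  obtain ⟨hdom, hinj, hlin⟩ := sections_facts H U hU ⟨x, hxU⟩
  have hg : (π.app U a₀ : Γ(Y', π ⁻¹ᵁ U)) + tOn K p' (π ⁻¹ᵁ U) * π.app U a₁ ≠ 0 := by
    intro h
    obtain ⟨h0, h1⟩ := hlin a₀ a₁ h
    obtain ⟨q, -, hq, -⟩ := hB_prime s₀ s₁ hB hU he' ha₀ ha₁ ⊥ Ideal.isPrime_bot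
        (by rw [h0]; exact Ideal.zero_mem _) (by rw [h1]; exact Ideal.zero_mem _)
    exact not_lt_bot hq
  have h2 : pt (hU.preimage π) ⟨⊥, Ideal.isPrime_bot⟩ ∈
      Y'.basicOpen ((π.app U a₀ : Γ(Y', π ⁻¹ᵁ U)) + tOn K p' (π ⁻¹ᵁ U) * π.app U a₁) := by
    rw [pt_mem_basicOpen]
    exact fun h => hg (by simpa using h)
  rw [← genLocus_sigma (K := K) π p' s₀ s₁ he' ha₀ ha₁] at h2
  exact ⟨_, h2.1⟩

end Sigma

end Groth.Agent.Pic13.H972.GenMem
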