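import Mathlib.RingTheory.Ideal.KrullsHeightTheorem
import Mathlib.RingTheory.Polynomial.Basic
import Mathlib.RingTheory.Localization.BaseChange
import Mathlib.RingTheory.PolynomialAlgebra
import Mathlib.RingTheory.Localization.Ideal
import Mathlib.RingTheory.Ideal.MinimalPrime.Localization

/-!
# The generic member of a pencil: algebra

`R` a Noetherian domain, `f₀, f₁ ∈ R` such that a prime containing both contains strictly a nonzero prime. Then the
linear polynomial `f₀ + f₁ X` has at most one minimal prime, also after localizing `R[X]`.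
-/

set_option autoImplicit false

namespace Groth.Agent.Pic13.H972.GenMemAlg

open Polynomial

section Poly

variable {R : Type*} [CommRing R]

/-- The linear polynomial `f₀ + f₁ X`. -/
noncomputable def lin (f₀ f₁ : R) : R[X] := C f₀ + C f₁ * X

/-- Pseudo-division by `f₀ + f₁ X`. -/
theorem pseudo_div (f₀ f₁ : R) (u : R[X]) :
    ∃ d₀ : ℕ, ∀ d, d₀ ≤ d → ∃ (q : R[X]) (r : R), C (f₁ ^ d) * u = lin f₀ f₁ * q + C r := by
  induction u using Polynomial.induction_on' with
  | add p q hp hq =>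
    obtain ⟨d₁, h₁⟩ := hp
    obtain ⟨d₂, h₂⟩ := hq
    refine ⟨max d₁ d₂, fun d hd => ?_⟩
    obtain ⟨q₁, r₁, e₁⟩ := h₁ d (le_trans (le_max_left _ _) hd)
    obtain ⟨q₂, r₂, e₂⟩ := h₂ d (le_trans (le_max_right _ _) hd)
    exact ⟨q₁ + q₂, r₁ + r₂, by rw [mul_add, e₁, e₂, C_add]; ring⟩
  | monomial n a =>
    -- `f₁^n X^n ≡ (-f₀)^n`
    have key : ∀ n : ℕ, ∃ q : R[X], C (f₁ ^ n) * X ^ n = lin f₀ f₁ * q + C ((-f₀) ^ n) := by
      intro n
      induction n with
      | zero => exact ⟨0, by simp⟩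
      | succ n ih =>
        obtain ⟨q, hq⟩ := ih
        refine ⟨q * (C f₁ * X) + C ((-f₀) ^ n), ?_⟩
        have : C (f₁ ^ (n + 1)) * X ^ (n + 1) = (C (f₁ ^ n) * X ^ n) * (C f₁ * X) := by
          rw [pow_succ, C_mul, pow_succ]; ring
        rw [this, hq, lin, pow_succ, C_mul, C_neg]
        ring
    refine ⟨n, fun d hd => ?_⟩
    obtain ⟨q, hq⟩ := key n
    refine ⟨C (a * f₁ ^ (d - n)) * q, a * f₁ ^ (d - n) * (-f₀) ^ n, ?_⟩
    rw [← C_mul_X_pow_eq_monomial]
    have h1 : (C (f₁ ^ d) : R[X]) = C (f₁ ^ (d - n)) * C (f₁ ^ n) := by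
      rw [← C_mul, ← pow_add, Nat.sub_add_cancel hd]
    rw [h1, C_mul (b := (-f₀) ^ n)]
    calc C (f₁ ^ (d - n)) * C (f₁ ^ n) * (C a * X ^ n) =
        C (f₁ ^ (d - n)) * C a * (C (f₁ ^ n) * X ^ n) := by ring
      _ = _ := by rw [hq, C_mul]; ring

variable [IsDomain R]

/-- A prime containing `f₀ + f₁ X`, `f₁ ≠ 0`, and contracting to zero is unique. -/
theorem le_of_comap_eq_bot (f₀ f₁ : R) (hf₁ : f₁ ≠ 0) (P₁ P₂ : Ideal R[X]) [P₁.IsPrime] [P₂.IsPrime]
    (h₁ : P₁.comap C = ⊥) (h₂ : P₂.comap C = ⊥) (hg₁ : lin f₀ f₁ ∈ P₁) (hg₂ : lin f₀ f₁ ∈ P₂) : P₁ ≤ P₂ := by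
  intro u hu
  obtain ⟨d, hd⟩ := pseudo_div f₀ f₁ u
  obtain ⟨q, r, e⟩ := hd d le_rfl
  have hr : r ∈ P₁.comap C := by
    rw [Ideal.mem_comap]
    have : C r = C (f₁ ^ d) * u - lin f₀ f₁ * q := by rw [e]; ring
    rw [this]
    exact P₁.sub_mem (P₁.mul_mem_left _ hu) (P₁.mul_mem_right _ hg₁)
  rw [h₁, Ideal.mem_bot] at hr
  rw [hr, C_0, add_zero] at e
  have h3 : C (f₁ ^ d) * u ∈ P₂ := by rw [e]; exact P₂.mul_mem_right _ hg₂
  refine (Ideal.IsPrime.mem_or_mem inferInstance h3).resolve_left fun h => ?_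
  have h4 : f₁ ^ d ∈ P₂.comap C := h
  rw [h₂, Ideal.mem_bot] at h4
  exact pow_ne_zero d hf₁ h4

theorem eq_of_comap_eq_bot (f₀ f₁ : R) (hf₁ : f₁ ≠ 0) (P₁ P₂ : Ideal R[X]) [P₁.IsPrime] [P₂.IsPrime]
    (h₁ : P₁.comap C = ⊥) (h₂ : P₂.comap C = ⊥) (hg₁ : lin f₀ f₁ ∈ P₁) (hg₂ : lin f₀ f₁ ∈ P₂) : P₁ = P₂ :=
  le_antisymm (le_of_comap_eq_bot f₀ f₁ hf₁ P₁ P₂ h₁ h₂ hg₁ hg₂)
    (le_of_comap_eq_bot f₀ f₁ hf₁ P₂ P₁ h₂ h₁ hg₂ hg₁)

omit [IsDomain R] in
/-- The extension to `R[X]` of a strict inclusion of ideals is strict. -/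
theorem map_C_lt {I J : Ideal R} (h : I < J) : I.map (C : R →+* R[X]) < J.map C := by
  refine lt_of_le_of_ne (Ideal.map_mono h.le) fun e => h.ne ?_
  have : ∀ I : Ideal R, (I.map (C : R →+* R[X])).comap C = I := by
    intro I
    ext x
    rw [Ideal.mem_comap, Ideal.mem_map_C_iff]
    refine ⟨fun h => by simpa using h 0, fun h n => ?_⟩
    rcases n with _ | n
    · simpa using h
    · simp [coeff_C_succ]
  rw [← this I, ← this J, e]

variable [IsNoetherianRing R]

/-- A minimal prime of `f₀ + f₁ X` contracts to zero, if `V(f₀, f₁)` has codimension at least two. -/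
theorem comap_eq_bot (f₀ f₁ : R)
    (hB : ∀ p : Ideal R, p.IsPrime → f₀ ∈ p → f₁ ∈ p → ∃ q : Ideal R, q.IsPrime ∧ q < p ∧ q ≠ ⊥)
    (P : Ideal R[X]) (hP : P ∈ (Ideal.span {lin f₀ f₁}).minimalPrimes) : P.comap C = ⊥ := by
  have hPp : P.IsPrime := hP.1.1
  have hht : P.height ≤ 1 := Ideal.height_le_one_of_isPrincipal_of_mem_minimalPrimes _ P hP
  have hchain : ∀ Q Q' : Ideal R[X], Q.IsPrime → Q'.IsPrime → ⊥ < Q → Q < Q' → Q' ≤ P → False := by
    intro Q Q' hQ hQ' h1 h2 h3
    have e1 : (0 : ℕ∞) + 1 ≤ Q.height := by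
      have := Ideal.height_add_one_le_of_lt_of_isPrime h1
      rwa [Ideal.height_bot] at this
    have e2 := Ideal.height_add_one_le_of_lt_of_isPrime h2
    have e3 : Q'.height ≤ P.height := Ideal.height_mono h3
    have e4 : (0 : ℕ∞) + 1 + 1 ≤ 1 := ((add_le_add_left e1 1).trans e2).trans (e3.trans hht)
    norm_num at e4
  by_contra hne
  set p := P.comap (C : R →+* R[X]) with hp
  have hpp : p.IsPrime := Ideal.comap_isPrime C P
  have hmp : (p.map (C : R →+* R[X])).IsPrime := Ideal.isPrime_map_C_of_isPrime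
  have hle : p.map (C : R →+* R[X]) ≤ P := Ideal.map_comap_le
  have hbot : ⊥ < p.map (C : R →+* R[X]) := by
    have := map_C_lt (bot_lt_iff_ne_bot.mpr hne)
    rwa [Ideal.map_bot] at this
  have heq : p.map (C : R →+* R[X]) = P := by
    by_contra h
    exact hchain _ P hmp hPp hbot (lt_of_le_of_ne hle h) le_rfl
  have hg : lin f₀ f₁ ∈ p.map (C : R →+* R[X]) := by
    rw [heq]; exact hP.1.2 (Ideal.mem_span_singleton_self _)
  rw [Ideal.mem_map_C_iff] at hg
  have h0 : f₀ ∈ p := by simpa [lin] using hg 0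
  have h1 : f₁ ∈ p := by simpa [lin, coeff_C] using hg 1
  obtain ⟨q, hq, hqp, hqne⟩ := hB p hpp h0 h1
  have hmq : (q.map (C : R →+* R[X])).IsPrime := Ideal.isPrime_map_C_of_isPrime
  refine hchain _ _ hmq hmp ?_ (map_C_lt hqp) hle
  have := map_C_lt (bot_lt_iff_ne_bot.mpr hqne)
  rwa [Ideal.map_bot] at this

end Poly

section Loc

variable {R : Type*} [CommRing R] [IsDomain R] [IsNoetherianRing R]
  {S : Type*} [CommRing S] [Algebra R[X] S] (M : Submonoid R[X]) [IsLocalization M S]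

include M

/-- Minimal primes of `f₀ + f₁ X` in a localization of `R[X]` contract to zero in `R`. -/
theorem comap_eq_bot_loc (f₀ f₁ : R)
    (hB : ∀ p : Ideal R, p.IsPrime → f₀ ∈ p → f₁ ∈ p → ∃ q : Ideal R, q.IsPrime ∧ q < p ∧ q ≠ ⊥)
    (P : Ideal S) (hP : P ∈ (Ideal.span {algebraMap R[X] S (lin f₀ f₁)}).minimalPrimes) :
    P.comap ((algebraMap R[X] S).comp C) = ⊥ := by
  have h : P.comap (algebraMap R[X] S) ∈ (Ideal.span {lin f₀ f₁}).minimalPrimes := by
    have h1 := IsLocalization.minimalPrimes_map M S (Ideal.span {lin f₀ f₁})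
    rw [Ideal.map_span, Set.image_singleton] at h1
    rw [h1] at hP
    exact hP
  rw [← Ideal.comap_comap]
  exact comap_eq_bot f₀ f₁ hB _ h

/-- Uniqueness of the prime of a localization of `R[X]` which contains `f₀ + f₁ X` and contracts to zero. -/
theorem eq_of_comap_eq_bot_loc (f₀ f₁ : R) (hf₁ : f₁ ≠ 0) (P₁ P₂ : Ideal S) [P₁.IsPrime] [P₂.IsPrime]
    (h₁ : P₁.comap ((algebraMap R[X] S).comp C) = ⊥) (h₂ : P₂.comap ((algebraMap R[X] S).comp C) = ⊥)
    (hg₁ : algebraMap R[X] S (lin f₀ f₁) ∈ P₁) (hg₂ : algebraMap R[X] S (lin f₀ f₁) ∈ P₂) : P₁ = P₂ := by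
  rw [← Ideal.comap_comap] at h₁ h₂
  have h := eq_of_comap_eq_bot f₀ f₁ hf₁ _ _ h₁ h₂ hg₁ hg₂
  rw [← IsLocalization.map_under M S P₁, ← IsLocalization.map_under M S P₂]
  exact congrArg _ h

end Loc

section Pushout

variable (K R : Type*) [Field K] [CommRing R] [Algebra K R] (L S : Type*) [Field L] [Algebra K[X] L]
  [IsFractionRing K[X] L] [Algebra K L] [IsScalarTower K K[X] L] [CommRing S] [Algebra K S] [Algebra R S]
  [IsScalarTower K R S] [Algebra L S] [IsScalarTower K L S] [Algebra.IsPushout K R L S]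

/-- The structure of an algebra over `R[X]` on the base change `S` of `R` to `L = K(X)`. -/
noncomputable abbrev algPoly : Algebra R[X] S :=
  (Polynomial.eval₂RingHom (algebraMap R S) (algebraMap L S (algebraMap K[X] L X))).toAlgebra

/-- The base change of `R` from `K` to `K(X)` is a localization of `R[X]`. -/
theorem isLocalization :
    letI := algPoly K R L S
    IsLocalization (Submonoid.map (Polynomial.mapRingHom (algebraMap K R)) (nonZeroDivisors K[X])) S := by
  let := algPoly K R L S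
  have e1 : ∀ p : R[X], algebraMap R[X] S p =
    Polynomial.eval₂ (algebraMap R S) (algebraMap L S (algebraMap K[X] L X)) p := fun _ => rfl
  let : Algebra K[X] S := ((algebraMap L S).comp (algebraMap K[X] L)).toAlgebra
  have e2 : ∀ p : K[X], algebraMap K[X] S p = algebraMap L S (algebraMap K[X] L p) := fun _ => rfl
  have t1 : IsScalarTower K[X] L S := IsScalarTower.of_algebraMap_eq fun _ => rfl
  let : Algebra K[X] R[X] := (Polynomial.mapRingHom (algebraMap K R)).toAlgebra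
  have e3 : ∀ p : K[X], algebraMap K[X] R[X] p = p.map (algebraMap K R) := fun _ => rfl
  have t2 : IsScalarTower K[X] R[X] S := by
    refine IsScalarTower.of_algebraMap_eq' (Polynomial.ringHom_ext' ?_ ?_)
    · ext a
      simp only [RingHom.comp_apply, e1, e2, e3, Polynomial.map_C, Polynomial.eval₂_C]
      rw [← IsScalarTower.algebraMap_apply K R S, ← Polynomial.algebraMap_eq,
        ← IsScalarTower.algebraMap_apply K K[X] L, ← IsScalarTower.algebraMap_apply K L S]
    · simp only [RingHom.comp_apply, e1, e2, e3, Polynomial.map_X, Polynomial.eval₂_X]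
  have t3 : IsScalarTower R R[X] S := IsScalarTower.of_algebraMap_eq fun r => by
    rw [Polynomial.algebraMap_eq, e1, Polynomial.eval₂_C]
  have t4 : IsScalarTower K K[X] S := IsScalarTower.of_algebraMap_eq fun a => by
    rw [e2, ← IsScalarTower.algebraMap_apply K K[X] L, ← IsScalarTower.algebraMap_apply K L S]
  have t5 : IsScalarTower K K[X] R[X] := IsScalarTower.of_algebraMap_eq fun a => by
    rw [e3, Polynomial.algebraMap_eq, Polynomial.map_C]; rfl
  have p1 : Algebra.IsPushout K K[X] R R[X] := inferInstance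
  have p2 : Algebra.IsPushout K L R S := Algebra.IsPushout.symm inferInstance
  have t6 : IsScalarTower K R[X] S := IsScalarTower.of_algebraMap_eq fun a => by
    rw [IsScalarTower.algebraMap_apply K R S, IsScalarTower.algebraMap_apply R R[X] S,
      ← IsScalarTower.algebraMap_apply K R R[X]]
  have p3 : Algebra.IsPushout K[X] L R[X] S := by
    exact (Algebra.IsPushout.comp_iff K K[X] R R[X]).mp p2
  have := (Algebra.isLocalization_iff_isPushout (nonZeroDivisors K[X]) L).mpr p3.symm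
  exact this

end Pushout

end Groth.Agent.Pic13.H972.GenMemAlg
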