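import Groth.Agent.Pic13.H972.GenMemAlg
import Mathlib.AlgebraicGeometry.Morphisms.Flat
import Mathlib.AlgebraicGeometry.Morphisms.Affine
import Mathlib.AlgebraicGeometry.FunctionField
import Mathlib.FieldTheory.RatFunc.Basic

/-!
# Base change from `K` to `K(t)` on affine opens
-/

set_option autoImplicit false
universe u
open CategoryTheory CategoryTheory.Limits AlgebraicGeometry Opposite TopologicalSpace

namespace Groth.Agent.Pic13.H972.GenMemGeo

open Polynomial GenMemAlg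

variable {K : Type u} [Field K] {L : Type u} [Field L] [Algebra K[X] L] [IsFractionRing K[X] L] [Algebra K L]
  [IsScalarTower K K[X] L] {Y Y' : Scheme.{u}} {p : Y ⟶ Spec (CommRingCat.of K)}
  {π : Y' ⟶ Y} {p' : Y' ⟶ Spec (CommRingCat.of L)}

/-- The function `t` on `Y'`. -/
noncomputable def tt (p' : Y' ⟶ Spec (CommRingCat.of L)) : Γ(Y', ⊤) :=
  p'.appTop ((Scheme.ΓSpecIso (CommRingCat.of L)).inv (algebraMap K[X] L X))

/-- The structure map `K → Γ(Y, U)`. -/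
noncomputable def kmap (p : Y ⟶ Spec (CommRingCat.of K)) (U : Y.Opens) : K →+* Γ(Y, U) :=
  ((Scheme.ΓSpecIso (CommRingCat.of K)).inv ≫ p.appLE ⊤ U le_top).hom

variable (p) in
/-- On an affine open `U` the base change of `Γ(Y, U)` to `K(t)` is a localization of `Γ(Y, U)[X]`. -/
theorem exists_loc (H : IsPullback π p' p (Spec.map (CommRingCat.ofHom (algebraMap K L)))) (U : Y.Opens)
    (hU : IsAffineOpen U) :
    ∃ (alg : Algebra Γ(Y, U)[X] Γ(Y', π ⁻¹ᵁ U)),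
      @IsLocalization _ _ (Submonoid.map (Polynomial.mapRingHom (kmap p U)) (nonZeroDivisors K[X])) _ _ alg ∧
      (∀ a : Γ(Y, U), alg.algebraMap (C a) = π.app U a) ∧
      alg.algebraMap X = Y'.presheaf.map (homOfLE le_top).op (tt (K := K) p') := by
  have iso := isIso_pushoutSection_of_isAffineOpen H (US := ⊤) (UT := ⊤) (UX := U) (UY := π ⁻¹ᵁ U) le_top le_top
    (by simp) (isAffineOpen_top _) (isAffineOpen_top _) hU
  have po := (isIso_pushoutSection_iff H le_top le_top (by simp)).mp iso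
  letI a1 : Algebra K Γ(Y, U) := (kmap p U).toAlgebra
  letI a2 : Algebra Γ(Y, U) Γ(Y', π ⁻¹ᵁ U) := (π.app U).hom.toAlgebra
  letI a3 : Algebra L Γ(Y', π ⁻¹ᵁ U) :=
    ((Scheme.ΓSpecIso (CommRingCat.of L)).inv ≫ p'.appLE ⊤ (π ⁻¹ᵁ U) le_top).hom.toAlgebra
  letI a4 : Algebra K Γ(Y', π ⁻¹ᵁ U) := ((algebraMap L Γ(Y', π ⁻¹ᵁ U)).comp (algebraMap K L)).toAlgebra
  have t1 : IsScalarTower K L Γ(Y', π ⁻¹ᵁ U) := IsScalarTower.of_algebraMap_eq fun _ => rfl
  have po' : IsPushout (CommRingCat.ofHom (algebraMap K Γ(Y, U))) (CommRingCat.ofHom (algebraMap K L))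
      (CommRingCat.ofHom (algebraMap Γ(Y, U) Γ(Y', π ⁻¹ᵁ U)))
      (CommRingCat.ofHom (algebraMap L Γ(Y', π ⁻¹ᵁ U))) := by
    refine po.of_iso (Scheme.ΓSpecIso (CommRingCat.of K)) (Iso.refl _) (Scheme.ΓSpecIso (CommRingCat.of L))
      (Iso.refl _) ?_ ?_ ?_ ?_
    · change _ = _ ≫ ((Scheme.ΓSpecIso (CommRingCat.of K)).inv ≫ p.appLE ⊤ U le_top)
      simp
    · rw [← Scheme.ΓSpecIso_naturality]
      simp [Scheme.Hom.appLE]
    · change _ = _ ≫ π.app U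
      simp [Scheme.Hom.appLE]
    · change _ = _ ≫ ((Scheme.ΓSpecIso (CommRingCat.of L)).inv ≫ p'.appLE ⊤ (π ⁻¹ᵁ U) le_top)
      simp
  have t2 : IsScalarTower K Γ(Y, U) Γ(Y', π ⁻¹ᵁ U) := by
    refine IsScalarTower.of_algebraMap_eq' ?_
    have := congrArg CommRingCat.Hom.hom po'.w
    exact this.symm
  have hpo : Algebra.IsPushout K Γ(Y, U) L Γ(Y', π ⁻¹ᵁ U) := CommRingCat.isPushout_iff_isPushout.mp po'
  refine ⟨algPoly K Γ(Y, U) L Γ(Y', π ⁻¹ᵁ U), isLocalization K Γ(Y, U) L Γ(Y', π ⁻¹ᵁ U), ?_, ?_⟩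
  · intro a
    change Polynomial.eval₂ _ _ (C a) = _
    rw [Polynomial.eval₂_C]
    rfl
  · change Polynomial.eval₂ _ _ X = _
    rw [Polynomial.eval₂_X]
    change (p'.appLE ⊤ (π ⁻¹ᵁ U) le_top) _ = _
    simp [Scheme.Hom.appLE, tt]
    rfl

end Groth.Agent.Pic13.H972.GenMemGeo
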